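import Cfsg.Agent.H19.J4Sylow.Small
import Cfsg.Agent.H47.J4Large.Main
import Cfsg.Prelude.Def_Sporadic

/-!
The Sylow normalisers for 23, 29, 31, 37, 43 in a group of Janko-four type isomorphic to the
presented fourth Janko group.
-/

set_option autoImplicit false

open Cfsg

namespace H23.J4Big

variable {G : Type*} [Group G] [Finite G] [IsSimpleGroup G]

theorem small (hG : ¬ IsMulCommutative G) (hJ : IsOfJankoFourType G)
    (hcard : Nat.card G = 86775571046077562880) :
    ∀ u w : G, (orderOf u = 23 ∨ orderOf u = 29 ∨ orderOf u = 31 ∨ orderOf u = 37 ∨ orderOf u = 43) →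
      Commute u w → ∀ q : ℕ, (q = 2 ∨ q = 3 ∨ q = 5 ∨ q = 7) → ¬ q ∣ orderOf w := by
  have hS := H19.J4Syl.smallFree hG hJ (hcard.trans (by norm_num [H19.J4Syl.ordJ]))
  intro u w hu hc q hq hd
  refine hS (orderOf u) (by simpa [H19.J4Syl.bigs] using hu) q (by simpa using hq) u
    (w ^ (orderOf w / q)) rfl (orderOf_pow_orderOf_div (orderOf_pos w).ne' hd) (hc.pow_right _)

theorem of_iso (hG : ¬ IsMulCommutative G) (hJ : IsOfJankoFourType G)
    (hcard : Nat.card G = 86775571046077562880) (e : Cfsg.Spor.IsoJ4 G) :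
    (∀ U : Sylow 23 G, Subgroup.centralizer ((U : Subgroup G) : Set G) = (U : Subgroup G) ∧ Nat.card ↥(Subgroup.normalizer ((U : Subgroup G) : Set G)) = 23 * 22) ∧
    (∀ U : Sylow 29 G, Subgroup.centralizer ((U : Subgroup G) : Set G) = (U : Subgroup G) ∧ Nat.card ↥(Subgroup.normalizer ((U : Subgroup G) : Set G)) = 29 * 28) ∧
    (∀ U : Sylow 31 G, Subgroup.centralizer ((U : Subgroup G) : Set G) = (U : Subgroup G) ∧ Nat.card ↥(Subgroup.normalizer ((U : Subgroup G) : Set G)) = 31 * 10) ∧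
    (∀ U : Sylow 37 G, Subgroup.centralizer ((U : Subgroup G) : Set G) = (U : Subgroup G) ∧ Nat.card ↥(Subgroup.normalizer ((U : Subgroup G) : Set G)) = 37 * 12) ∧
    (∀ U : Sylow 43 G, Subgroup.centralizer ((U : Subgroup G) : Set G) = (U : Subgroup G) ∧ Nat.card ↥(Subgroup.normalizer ((U : Subgroup G) : Set G)) = 43 * 14) := by
  obtain ⟨f⟩ := e
  exact H47.J4Large.five hcard (small hG hJ hcard) f

end H23.J4Big
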